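import Groth.Agent.Lib.Cyc.PB.Sect

/-!
# Pulled back bases of sections are bases
-/

set_option autoImplicit false
set_option backward.isDefEq.respectTransparency false
set_option backward.isDefEq.respectTransparency.types false
universe u

open CategoryTheory CategoryTheory.Limits AlgebraicGeometry TopologicalSpace Opposite
open ZarCoh.FlatBC.PullbackSections

namespace Groth.Agent.H69.LFDesc

open Groth.Agent.Lib TensorMod TensorMod.Dual TensorMod.Gen TensorMod.Basis DescAlg.PbSec

variable {T X : Scheme.{u}} {M : X.Modules} {U : X.Opens} {n : ℕ} {e : Fin n → Γ(M, U)}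

/-- An isomorphism maps a basis to a basis. -/
theorem isBasis_of_iso {N : X.Modules} (φ : M ⟶ N) [IsIso φ] (he : IsBasis e) :
    IsBasis fun k => φ.app U (e k) := fun V hV => by
  rw [show comb (fun k => φ.app U (e k)) hV = φ.app V ∘ comb e hV from
    funext fun a => (app_comb φ e hV a).symm]
  exact (ConcreteCategory.bijective_of_isIso (φ.app V)).comp (he V hV)

theorem isBasis_pbRes_top (g : T ⟶ X) (hg : (⊤ : T.Opens) ≤ g ⁻¹ᵁ U) (he : IsBasis e) :
    IsBasis (U := (⊤ : T.Opens)) fun k => pbRes g M hg (e k) := by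
  let φ := Modules.Free.freeHom fun k => pbRes g M hg (e k)
  obtain ⟨s, hs⟩ := Cyc.PB.Sect.exists_hom_basis g hg he (N := FlatMod.freeMod T n)
    (fun k => Modules.Free.gen T k)
  have : IsIso φ := ⟨s, Modules.Free.freeHom_ext fun k => by
      rw [Scheme.Modules.Hom.comp_app, CategoryTheory.comp_apply, Modules.Free.freeHom_app_gen, hs]
      rfl,
    Cyc.PB.Sect.hom_ext_basis g hg he fun k => by
      rw [Scheme.Modules.Hom.comp_app, CategoryTheory.comp_apply, hs, Modules.Free.freeHom_app_gen]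
      rfl⟩
  have := isBasis_of_iso φ (isBasis_freeMod T n)
  simpa only [φ, Modules.Free.freeHom_app_gen] using this

theorem R_open_bijective {Y : Scheme.{u}} (u : Y ⟶ X) (W : Y.Opens) :
    Function.Bijective (R W.ι (rfl : W.ι ≫ u = W.ι ≫ u) M (W := W) (W' := ⊤) fun z _ => z.2) :=
  R_bijective_top W.ι rfl M (Scheme.Opens.opensRange_ι W).ge fun z _ => z.2

theorem isBasis_pbRes {Y : Scheme.{u}} (u : Y ⟶ X) (he : IsBasis e) :
    IsBasis fun k => pbRes u M (le_refl (u ⁻¹ᵁ U)) (e k) := fun W hW => by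
  have ht : (⊤ : W.toScheme.Opens) ≤ W.ι ⁻¹ᵁ W := fun z _ => z.2
  have hg : (⊤ : W.toScheme.Opens) ≤ (W.ι ≫ u) ⁻¹ᵁ U := fun z _ => hW z.2
  have hb := isBasis_pbRes_top (W.ι ≫ u) hg he
  let θ := W.ι.appLE W ⊤ ht
  have hθ : Function.Bijective θ := by
    have : IsIso θ := by
      have hθe : θ = W.ι.app W ≫ W.toScheme.presheaf.map (homOfLE ht).op := rfl
      have := W.ι.isIso_app W (Scheme.Opens.opensRange_ι W).ge
      have : IsIso (homOfLE ht) := ⟨homOfLE le_top, rfl, rfl⟩
      rw [hθe]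
      infer_instance
    exact ConcreteCategory.bijective_of_isIso θ
  have hkey : R W.ι (rfl : W.ι ≫ u = W.ι ≫ u) M (W := W) (W' := ⊤) ht ∘
      comb (fun k => pbRes u M (le_refl (u ⁻¹ᵁ U)) (e k)) hW =
      comb (fun k => pbRes (W.ι ≫ u) M hg (e k)) le_rfl ∘ (fun a k => θ (a k)) := by
    funext a
    simp only [Function.comp_apply, comb, map_sum]
    refine Finset.sum_congr rfl fun k _ => ?_
    rw [R_smul, Cyc.PB.Sect.rs_pbRes, Cyc.PB.Sect.rs_pbRes, R_pbRes]
  refine (Function.Bijective.of_comp_iff' (R_open_bijective u W) _).1 ?_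
  rw [hkey]
  exact (hb ⊤ le_rfl).comp (Function.Bijective.piMap fun _ : Fin n => hθ)

end Groth.Agent.H69.LFDesc
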