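import Groth.Agent.H69.LFDesc.Basis
import Groth.Prelude.Def_FlatMod2

/-!
# Descent of morphisms of finite locally free modules along `f` with
`O_Y → f_*O_X ⇉ g_*O_{X ×_Y X}` exact
-/

set_option autoImplicit false
set_option backward.isDefEq.respectTransparency false
set_option backward.isDefEq.respectTransparency.types false
universe u

open CategoryTheory CategoryTheory.Limits AlgebraicGeometry TopologicalSpace Opposite
open ZarCoh.FlatBC.PullbackSections

namespace Groth.Agent.H69.LFDesc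

open Groth.Agent.Lib TensorMod TensorMod.Dual TensorMod.Gen TensorMod.Basis DescAlg.PbSec

variable {X Y : Scheme.{u}} (f : X ⟶ Y)

theorem map_comb {U : Y.Opens} {n : ℕ} {M : Y.Modules} (e : Fin n → Γ(M, U)) {V : Y.Opens}
    (hV : V ≤ U) (c : Fin n → Γ(Y, V)) :
    pbRes f M (le_refl (f ⁻¹ᵁ V)) (comb e hV c) =
      comb (fun k => pbRes f M (le_refl (f ⁻¹ᵁ U)) (e k)) (f.preimage_mono hV) fun k => f.app V (c k) := by
  simp only [comb, map_sum]
  refine Finset.sum_congr rfl fun k _ => ?_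
  rw [pbRes_smul, Cyc.PB.Sect.pbRes_rs, Cyc.PB.Sect.rs_pbRes, Scheme.Hom.app_eq_appLE]

variable (hinj : ∀ U : Y.Opens, Function.Injective (f.app U)) {M : Y.Modules}
  (hM : FlatMod.IsFinLocFree M)

include hinj hM in
theorem pbRes_injective (U : Y.Opens) :
    Function.Injective (pbRes f M (le_refl (f ⁻¹ᵁ U))) := by
  intro m m' h
  choose W n hxW hiso using fun x : U => hM x.1
  choose e he using fun x => exists_basis_of_iso (hiso x).some
  refine TopCat.Sheaf.eq_of_locally_eq' (⟨M.presheaf, M.isSheaf⟩ : TopCat.Sheaf AddCommGrpCat Y)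
    (fun x : U => U ⊓ W x) U (fun x => homOfLE inf_le_left)
    (fun y hy => Opens.mem_iSup.2 ⟨⟨y, hy⟩, hy, hxW _⟩) _ _ fun x => ?_
  show rs M (inf_le_left : U ⊓ W x ≤ U) m = rs M (inf_le_left : U ⊓ W x ≤ U) m'
  obtain ⟨c, hc⟩ := (he x (U ⊓ W x) inf_le_right).2 (rs M inf_le_left m)
  obtain ⟨c', hc'⟩ := (he x (U ⊓ W x) inf_le_right).2 (rs M inf_le_left m')
  have h2 : pbRes f M (le_refl (f ⁻¹ᵁ (U ⊓ W x))) (rs M inf_le_left m) =
      pbRes f M (le_refl (f ⁻¹ᵁ (U ⊓ W x))) (rs M inf_le_left m') := by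
    have := congrArg (rs ((Scheme.Modules.pullback f).obj M) (f.preimage_mono (inf_le_left : U ⊓ W x ≤ U))) h
    rw [Cyc.PB.Sect.rs_pbRes, Cyc.PB.Sect.rs_pbRes] at this
    rw [Cyc.PB.Sect.pbRes_rs, Cyc.PB.Sect.pbRes_rs]
    exact this
  rw [← hc, ← hc', map_comb, map_comb] at h2
  have h3 := (isBasis_pbRes f (he x) _ _).1 h2
  rw [← hc, ← hc']
  exact congrArg _ (funext fun k => hinj _ (congrFun h3 k))

variable (hU : ∀ U : Y.Opens, (pullback.fst f f) ⁻¹ᵁ (f ⁻¹ᵁ U) = (pullback.snd f f) ⁻¹ᵁ (f ⁻¹ᵁ U))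
    (hex : ∀ (U : Y.Opens) (a : Γ(X, f ⁻¹ᵁ U)),
      (pullback.fst f f).app (f ⁻¹ᵁ U) a =
        ((pullback f f).presheaf.map (eqToHom (hU U)).op) ((pullback.snd f f).app (f ⁻¹ᵁ U) a) →
      a ∈ Set.range (f.app U))

theorem cond : pullback.snd f f ≫ f = pullback.fst f f ≫ f := pullback.condition.symm

include hinj hM hU hex in
theorem mem_range_pbRes (U : Y.Opens) (a : Γ((Scheme.Modules.pullback f).obj M, f ⁻¹ᵁ U))
    (ha : R (pullback.fst f f) (rfl : pullback.fst f f ≫ f = _) M (W' := pullback.fst f f ⁻¹ᵁ (f ⁻¹ᵁ U)) le_rfl a =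
      R (pullback.snd f f) (cond f) M (hU U).le a) :
    ∃ m : Γ(M, U), pbRes f M (le_refl (f ⁻¹ᵁ U)) m = a := by
  choose W n hxW hiso using fun x : U => hM x.1
  choose e he using fun x => exists_basis_of_iso (hiso x).some
  let p := pullback.fst f f
  let q := pullback.snd f f
  have hloc : ∀ x : U, ∃ m : Γ(M, U ⊓ W x), pbRes f M (le_refl (f ⁻¹ᵁ (U ⊓ W x))) m =
      rs ((Scheme.Modules.pullback f).obj M) (f.preimage_mono inf_le_left) a := by
    intro x
    have hWx : U ⊓ W x ≤ W x := inf_le_right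
    obtain ⟨b, hb⟩ := (isBasis_pbRes f (he x) (f ⁻¹ᵁ (U ⊓ W x)) (f.preimage_mono hWx)).2
      (rs ((Scheme.Modules.pullback f).obj M) (f.preimage_mono inf_le_left) a)
    have hle : p ⁻¹ᵁ (f ⁻¹ᵁ (U ⊓ W x)) ≤ p ⁻¹ᵁ (f ⁻¹ᵁ U) := p.preimage_mono (f.preimage_mono inf_le_left)
    have h1 := congrArg (R p (rfl : p ≫ f = _) M (W' := p ⁻¹ᵁ (f ⁻¹ᵁ (U ⊓ W x))) le_rfl) hb
    have h2 := congrArg (R q (cond f) M (hU (U ⊓ W x)).le) hb
    have h3 := congrArg (rs ((Scheme.Modules.pullback (p ≫ f)).obj M) hle) ha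
    change ((Scheme.Modules.pullback (p ≫ f)).obj M).presheaf.map (homOfLE hle).op _ =
      ((Scheme.Modules.pullback (p ≫ f)).obj M).presheaf.map (homOfLE hle).op _ at h3
    rw [map_R, map_R] at h3
    change _ = R p (rfl : p ≫ f = _) M le_rfl (((Scheme.Modules.pullback f).obj M).presheaf.map
      (homOfLE (f.preimage_mono (inf_le_left : U ⊓ W x ≤ U))).op a) at h1
    change _ = R q (cond f) M (hU (U ⊓ W x)).le (((Scheme.Modules.pullback f).obj M).presheaf.map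
      (homOfLE (f.preimage_mono (inf_le_left : U ⊓ W x ≤ U))).op a) at h2
    rw [R_map] at h1 h2
    have h4 := h1.trans (h3.trans h2.symm)
    have key : ∀ (r : pullback f f ⟶ X) (hr : r ≫ f = p ≫ f)
        (er : p ⁻¹ᵁ (f ⁻¹ᵁ (U ⊓ W x)) ≤ r ⁻¹ᵁ (f ⁻¹ᵁ (U ⊓ W x))),
        R r hr M er (comb (fun k => pbRes f M (le_refl (f ⁻¹ᵁ W x)) (e x k)) (f.preimage_mono hWx) b) =
          comb (fun k => pbRes (p ≫ f) M (le_refl ((p ≫ f) ⁻¹ᵁ W x)) (e x k))
            ((p ≫ f).preimage_mono hWx) fun k => r.appLE (f ⁻¹ᵁ (U ⊓ W x)) _ er (b k) := by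
      intro r hr er
      simp only [comb, map_sum]
      refine Finset.sum_congr rfl fun k _ => ?_
      rw [R_smul, Cyc.PB.Sect.rs_pbRes, Cyc.PB.Sect.rs_pbRes, R_pbRes]
      rfl
    rw [key p rfl le_rfl, key q (cond f) (hU (U ⊓ W x)).le] at h4
    have h5 := (isBasis_pbRes (p ≫ f) (he x) _ _).1 h4
    have h6 : ∀ k, b k ∈ Set.range (f.app (U ⊓ W x)) := fun k => hex _ _ (by
      have := congrFun h5 k
      rw [← Scheme.Hom.app_eq_appLE] at this
      refine this.trans ?_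
      rfl)
    choose c hc using h6
    refine ⟨comb (e x) hWx c, ?_⟩
    rw [map_comb, funext hc]
    exact hb
  choose mloc hmloc using hloc
  obtain ⟨m, hm, -⟩ := TopCat.Sheaf.existsUnique_gluing'
    (⟨M.presheaf, M.isSheaf⟩ : TopCat.Sheaf AddCommGrpCat Y)
    (fun x : U => U ⊓ W x) U (fun x => homOfLE inf_le_left)
    (fun y hy => Opens.mem_iSup.2 ⟨⟨y, hy⟩, hy, hxW _⟩) mloc (fun i j => by
      change rs M (inf_le_left : (U ⊓ W i) ⊓ (U ⊓ W j) ≤ U ⊓ W i) (mloc i) =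
        rs M (inf_le_right : (U ⊓ W i) ⊓ (U ⊓ W j) ≤ U ⊓ W j) (mloc j)
      apply pbRes_injective f hinj hM
      rw [Cyc.PB.Sect.pbRes_rs, Cyc.PB.Sect.pbRes_rs,
        ← Cyc.PB.Sect.rs_pbRes f M (le_refl (f ⁻¹ᵁ (U ⊓ W i))) (f.preimage_mono inf_le_left),
        ← Cyc.PB.Sect.rs_pbRes f M (le_refl (f ⁻¹ᵁ (U ⊓ W j))) (f.preimage_mono inf_le_right), hmloc, hmloc, rs_rs, rs_rs])
  refine ⟨m, TopCat.Sheaf.eq_of_locally_eq'
    (⟨((Scheme.Modules.pullback f).obj M).presheaf, ((Scheme.Modules.pullback f).obj M).isSheaf⟩ :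
      TopCat.Sheaf AddCommGrpCat X)
    (fun x : U => f ⁻¹ᵁ (U ⊓ W x)) (f ⁻¹ᵁ U) (fun x => homOfLE (f.preimage_mono inf_le_left))
    (fun y hy => Opens.mem_iSup.2 ⟨⟨f y, hy⟩, hy, hxW _⟩) _ _ fun x => ?_⟩
  show rs ((Scheme.Modules.pullback f).obj M) (f.preimage_mono inf_le_left) (pbRes f M _ m) =
    rs ((Scheme.Modules.pullback f).obj M) (f.preimage_mono inf_le_left) a
  rw [← hmloc x, Cyc.PB.Sect.rs_pbRes, ← hm x]
  exact (Cyc.PB.Sect.pbRes_rs f M inf_le_left le_rfl m).symm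

variable {L : Y.Modules}
  (φ : (Scheme.Modules.pullback f).obj L ⟶ (Scheme.Modules.pullback f).obj M)

include hinj hM hU hex in
theorem existsUnique_descend
    (hφ : conj L M (pullback.fst f f) rfl φ = conj L M (pullback.snd f f) (cond f) φ) :
    ∃! ψ : L ⟶ M, (Scheme.Modules.pullback f).map ψ = φ := by
  have huq : ∀ U, Function.Injective (pbRes f M (le_refl (f ⁻¹ᵁ U))) := pbRes_injective f hinj hM
  have hval : ∀ (U : Y.Opens) (s : Γ(L, U)), ∃ m : Γ(M, U),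
      pbRes f M (le_refl (f ⁻¹ᵁ U)) m = φ.app (f ⁻¹ᵁ U) (pbRes f L le_rfl s) := by
    intro U s
    refine mem_range_pbRes f hinj hM hU hex U _ ?_
    rw [R_app, R_app, R_pbRes, R_pbRes, hφ]
  choose F hF using hval
  have hadd : ∀ U a b, F U (a + b) = F U a + F U b := fun U a b =>
    huq U (by rw [map_add, hF, hF, hF, map_add, map_add])
  have hzero : ∀ U, F U 0 = 0 := fun U => huq U (by rw [hF, map_zero, map_zero, map_zero])
  let φp : L.presheaf ⟶ M.presheaf :=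
    { app := fun U => AddCommGrpCat.ofHom { toFun := F U.unop, map_zero' := hzero _, map_add' := hadd _ }
      naturality := fun U U' k => by
        ext m
        show F U'.unop (rs L k.unop.le m) = rs M k.unop.le (F U.unop m)
        apply huq
        rw [hF, Cyc.PB.Sect.pbRes_rs, Cyc.PB.Sect.pbRes_rs,
          ← Cyc.PB.Sect.rs_pbRes f M (le_refl (f ⁻¹ᵁ U.unop)) (f.preimage_mono k.unop.le),
          ← Cyc.PB.Sect.rs_pbRes f L (le_refl (f ⁻¹ᵁ U.unop)) (f.preimage_mono k.unop.le), hF,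
          HomGlue.rs_app] }
  let ψ : L ⟶ M := ⟨PresheafOfModules.homMk φp fun U r m => by
    show F U.unop ((show Γ(Y, U.unop) from r) • (show Γ(L, U.unop) from m)) =
      (show Γ(Y, U.unop) from r) • F U.unop m
    apply huq
    rw [hF, pbRes_smul, pbRes_smul, Scheme.Modules.Hom.app_smul, hF]⟩
  refine ⟨ψ, hom_ext f fun U m => ?_, fun ψ' h => ?_⟩
  · rw [pbRes_natural]
    exact hF U m
  · refine Scheme.Modules.hom_ext _ _ fun U => ?_
    ext m
    apply huq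
    rw [← pbRes_natural, h]
    exact (hF U m).symm

end Groth.Agent.H69.LFDesc
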